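import Cfsg.Agent.H378.Eng.Lev2_m3
import Cfsg.Agent.H378.TwRows
import Cfsg.Agent.H378.RegE7
import Cfsg.Agent.Prune
set_option linter.all false

section
prune_inst 0x7f00000000000000000000000000000000000000000000000000000000000000000000000000000000000000000000000000000000000000000000000000000000000000000000000000000000000000003fffffffffffffffffffffffffffbeffbdffffffff

-- part: H414/E6/Frob
section
set_option linter.all false
open scoped Cfsg.Agent.FastGrp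

/-!
# Frobenius subgroups of `E₆(q)`, `²E₆(q)`, `F₄(q)` (helper414, S3480, S3481)

* `frob_E6` : `E₆(q)`, complement of order `(q⁴+1)(q²-1)/(3,q-1)`;
* `frob_F4` : `F₄(q)`, complement of order `N`, `N ∣ (q³+1)(q-1)` odd;
* `frob_tE6_8` : `²E₆(q)`, complement of order `N`, `N ∣ (q⁴+1)(q-1)` prime to `q + 1`;
* `frob_tE6_6` : `²E₆(q)`, complement of order `(q³+1)(q-1)/(3,q+1)`.
-/

set_option autoImplicit false
set_option linter.unusedSectionVars false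

namespace Cfsg.Agent.H414.E6

open CoxeterSystem Subgroup Cfsg Cfsg.Lie Cfsg.Lie.ChevalleyDatum
open Cfsg.Agent.ChevalleyStructure Cfsg.Agent.ChevalleyStructure.CoxeterGeom
  Cfsg.Agent.ChevalleyStructure.CoxeterGeomTypes
open Cfsg.Agent.Nodes Cfsg.Agent.Nodes.RGDChev Cfsg.Agent.H414.Tw
open Cfsg.Agent.BpExc Cfsg.Agent.BpExc.TowChev Cfsg.Agent.BpExc.Fr
open Cfsg.Agent.H81.PJChev (act)

universe u v

/-! ### `E₆(q)` -/

/-- the word -/
def w8 : List (Fin 6) := [0, 2, 3, 1, 4]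

theorem chk8 : chkOrb chevE6 (act chevE6 w8 ∘ id) 36 8 = true := by decide +kernel

/-- the matrix -/
def T8 : Fin 6 → Fin 6 → ℤ := ![![0, 0, 1, 0, 0, 0], ![-1, -1, -1, -1, 0, 0], ![0, 0, 0, 1, 0, 0], ![1, 1, 1, 1, 1, 0],
  ![-1, 0, -1, -1, -1, 0], ![1, 0, 1, 1, 1, 1]]

theorem hT8 : ∀ j i : Fin 6, vec chevE6 6 ((act chevE6 w8 ∘ id) (chevE6.simple j)) i = T8 j i := by decide +kernel

/-- the eigenfunction -/
def f8 (q : ℤ) : Fin 6 → ℤ := ![-q ^ 5 + q ^ 4 - q ^ 2 + q, q ^ 4 - q ^ 3, q ^ 5 - q ^ 4 - q ^ 3 + 2 * q ^ 2 - 1,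
  -q ^ 5 + 2 * q ^ 3 - q ^ 2 - q + 1, q ^ 5 - q ^ 3 + q - 1, 1]

theorem psi8 : ∃ ψ : Fin 6 → ℤ, dot ψ (vec chevE6 6 36) = 0 ∧
    ∀ i, 0 < i → i < 8 → dot ψ (vec chevE6 6 ((act chevE6 w8 ∘ id)^[i] 36)) ≠ 0 := by
  refine ⟨![1, 10, 100, 1000, 10000, 0], by decide +kernel, ?_⟩
  intro i h0 h1
  interval_cases i <;> decide +kernel

theorem eig8 (q : ℤ) (j : Fin 6) : (q ^ 4 + 1) * (q ^ 2 - 1) ∣
    dot (f8 q) (vec chevE6 6 ((act chevE6 w8 ∘ id) (chevE6.simple j))) - q * f8 q j := by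
  have h : dot (f8 q) (vec chevE6 6 ((act chevE6 w8 ∘ id) (chevE6.simple j))) = ∑ i, f8 q i * T8 j i := by
    rw [dot_apply]
    exact Finset.sum_congr rfl fun i _ => by rw [hT8]
  rw [h, Fin.sum_univ_six]
  fin_cases j
  · refine ⟨1, ?_⟩
    simp [f8, T8]; ring
  · refine ⟨0, ?_⟩
    simp [f8, T8]; ring
  · refine ⟨-1, ?_⟩
    simp [f8, T8]; ring
  · refine ⟨1, ?_⟩
    simp [f8, T8]; ring
  · refine ⟨-1, ?_⟩
    simp [f8, T8]; ring
  · refine ⟨0, ?_⟩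
    simp [f8, T8]; ring

theorem dot8 (q : ℤ) : dot (f8 q) (vec chevE6 6 36) = 1 := by
  have h : ∀ i, vec chevE6 6 36 i = (![0, 0, 0, 0, 0, 1] : Fin 6 → ℤ) i := by decide +kernel
  rw [dot_apply, Fin.sum_univ_six]
  simp only [h]
  simp [f8]

theorem exists_root {F : Type u} [Field F] [Fintype F] {d : ℕ} (hd : d ≠ 0)
    (h : (Fintype.card F - 1).Coprime d) (a : F) : ∃ b : F, b ^ d = a := by
  by_cases ha : a = 0
  · exact ⟨0, by rw [ha, zero_pow hd]⟩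
  · have h1 : (Nat.card Fˣ).Coprime d := by
      rw [Nat.card_units, Nat.card_eq_fintype_card]
      exact h
    obtain ⟨b, hb⟩ := (powCoprime h1).surjective (Units.mk0 a ha)
    exact ⟨b, congrArg Units.val hb⟩

theorem gcd_three (a : ℕ) : Nat.gcd 3 a = 3 ∨ Nat.gcd 3 a = 1 ∧ a.Coprime 3 := by
  rcases (Nat.dvd_prime Nat.prime_three).1 (Nat.gcd_dvd_left 3 a) with h | h
  · exact Or.inr ⟨h, Nat.Coprime.symm h⟩
  · exact Or.inl h

theorem cop_pow_add (q n : ℕ) (hn : 0 < n) : (q ^ n + 1).Coprime q := by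
  apply Nat.Coprime.coprime_dvd_right (dvd_pow_self q hn.ne')
  rw [Nat.coprime_iff_gcd_eq_one, Nat.gcd_comm, Nat.gcd_self_add_right, Nat.gcd_one_right]

theorem cop_pow_sub (q n : ℕ) (hq : 1 ≤ q) (hn : 0 < n) : (q ^ n - 1).Coprime q := by
  apply Nat.Coprime.coprime_dvd_right (dvd_pow_self q hn.ne')
  have h1 : 1 ≤ q ^ n := Nat.one_le_pow _ _ (by omega)
  obtain ⟨m, hm⟩ : ∃ m, q ^ n = m + 1 := ⟨q ^ n - 1, by omega⟩
  rw [hm, Nat.add_sub_cancel]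
  exact (Nat.coprime_self_add_right).2 (Nat.coprime_one_right m)

/-- **`E₆(q)`** -/
theorem frob_E6 {F : Type u} [Field F] [Fintype F] {q : ℕ} (hq : Fintype.card F = q) {p : ℕ} (hpp : p.Prime)
    (hpq : p ∣ q) : FrobSub ↥(chevE6.group F) p ((q ^ 4 + 1) * (q ^ 2 - 1) / Nat.gcd 3 (q - 1)) := by
  have hfin := H493.PGE6.finW
  have hq2 : 2 ≤ q := by rw [← hq]; exact Fintype.one_lt_card
  have hq1 : q - 1 ∣ q ^ 2 - 1 := by
    have h := Nat.sub_dvd_pow_sub_pow q 1 2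
    rwa [one_pow] at h
  have hN : 0 < (q ^ 4 + 1) * (q ^ 2 - 1) := by
    have : 2 ^ 2 ≤ q ^ 2 := Nat.pow_le_pow_left hq2 2
    exact Nat.mul_pos (by positivity) (by omega)
  have hcop : ((q ^ 4 + 1) * (q ^ 2 - 1)).Coprime q :=
    (cop_pow_add q 4 (by norm_num)).mul_left (cop_pow_sub q 2 (by omega) (by norm_num))
  have hdcop : (Nat.gcd 3 (q - 1)).Coprime q :=
    Nat.Coprime.coprime_dvd_left (Nat.gcd_dvd_right 3 (q - 1))
      (by have := cop_pow_sub q 1 (by omega) (by norm_num); rwa [pow_one] at this)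
  have hNZ : (((q ^ 4 + 1) * (q ^ 2 - 1) : ℕ) : ℤ) = ((q : ℤ) ^ 4 + 1) * ((q : ℤ) ^ 2 - 1) := by
    have : 1 ≤ q ^ 2 := Nat.one_le_pow _ _ (by omega)
    push_cast [Nat.cast_sub this]
    ring
  obtain ⟨ψ, h1, h2⟩ := psi8
  have h := untw_frob RGDTwE6.hp CoxeterMatrix.E₆.toCoxeterSystem hq H129.TorusChar.invC_E6 (by norm_num)
    w8 chk8 ψ h1 h2 hN hcop (f := f8 q) (fun j => by rw [hNZ]; exact eig8 q j) (by rw [dot8]; exact isCoprime_one_right)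
    hdcop ?_ hpp hpq
  · have e : Nat.gcd ((q ^ 4 + 1) * (q ^ 2 - 1)) (Nat.gcd 3 (q - 1)) = Nat.gcd 3 (q - 1) :=
      Nat.gcd_eq_right (((Nat.gcd_dvd_right 3 (q - 1)).trans hq1).mul_left _)
    rwa [e] at h
  · rcases gcd_three (q - 1) with h3 | ⟨h3, h4⟩
    · exact Or.inl h3
    · exact Or.inr ⟨h3, exists_root (by norm_num) (by rw [hq]; exact h4)⟩

/-! ### `F₄(q)` -/

theorem typeF4 : IsType chevF4 4 CoxeterMatrix.F₄ := by simp [IsType, typeList]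

/-- the word -/
def wF : List (Fin 4) := [1, 2, 3]

theorem chkF : chkOrb chevF4 (act chevF4 wF ∘ id) 41 6 = true := by decide +kernel

/-- the matrix -/
def TF : Fin 4 → Fin 4 → ℤ := ![![1, 1, 0, 0], ![0, 1, 1, 0], ![0, 0, 0, 1], ![0, -2, -1, -1]]

theorem hTF : ∀ j i : Fin 4, vec chevF4 4 ((act chevF4 wF ∘ id) (chevF4.simple j)) i = TF j i := by decide +kernel

/-- the eigenfunction -/
def fF (q : ℤ) : Fin 4 → ℤ := ![q ^ 3 - q ^ 2 - q + 2, -q ^ 3 + 2 * q - 1, 2 * q ^ 2 - 2 * q, 2 * q ^ 3 - 2 * q ^ 2]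

theorem psiF : ∃ ψ : Fin 4 → ℤ, dot ψ (vec chevF4 4 41) = 0 ∧
    ∀ i, 0 < i → i < 6 → dot ψ (vec chevF4 4 ((act chevF4 wF ∘ id)^[i] 41)) ≠ 0 := by
  refine ⟨![1, 10, -22, 1000], by decide +kernel, ?_⟩
  intro i h0 h1
  interval_cases i <;> decide +kernel

theorem eigF (q : ℤ) (j : Fin 4) : (q ^ 3 + 1) * (q - 1) ∣
    dot (fF q) (vec chevF4 4 ((act chevF4 wF ∘ id) (chevF4.simple j))) - q * fF q j := by
  have h : dot (fF q) (vec chevF4 4 ((act chevF4 wF ∘ id) (chevF4.simple j))) = ∑ i, fF q i * TF j i := by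
    rw [dot_apply]
    exact Finset.sum_congr rfl fun i _ => by rw [hTF]
  rw [h, Fin.sum_univ_four]
  fin_cases j
  · refine ⟨-1, ?_⟩
    simp [fF, TF]; ring
  · refine ⟨1, ?_⟩
    simp [fF, TF]; ring
  · refine ⟨0, ?_⟩
    simp [fF, TF]; ring
  · refine ⟨-2, ?_⟩
    simp [fF, TF]; ring

theorem dotF (q : ℤ) : dot (fF q) (vec chevF4 4 41) = 2 := by
  have h : ∀ i, vec chevF4 4 41 i = (![2, 2, 1, 0] : Fin 4 → ℤ) i := by decide +kernel
  rw [dot_apply, Fin.sum_univ_four]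
  simp only [h]
  simp [fF]
  ring

/-- **`F₄(q)`** -/
theorem frob_F4 {F : Type u} [Field F] [Fintype F] {q : ℕ} (hq : Fintype.card F = q) {p : ℕ} (hpp : p.Prime)
    (hpq : p ∣ q) {N : ℕ} (hN : 0 < N) (hd : (N : ℤ) ∣ ((q : ℤ) ^ 3 + 1) * ((q : ℤ) - 1)) (h2 : ¬ 2 ∣ N) :
    FrobSub ↥(chevF4.group F) p N := by
  have hfin := finite_W typeF4 CoxeterMatrix.F₄.toCoxeterSystem
  have hq2 : 2 ≤ q := by rw [← hq]; exact Fintype.one_lt_card
  have hNZ : (((q ^ 3 + 1) * (q - 1) : ℕ) : ℤ) = ((q : ℤ) ^ 3 + 1) * ((q : ℤ) - 1) := by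
    push_cast [Nat.cast_sub (show 1 ≤ q by omega)]
    ring
  have hd' : N ∣ (q ^ 3 + 1) * (q - 1) := by
    rw [← Int.natCast_dvd_natCast, hNZ]; exact hd
  have hcop : N.Coprime q := by
    refine Nat.Coprime.coprime_dvd_left hd' ?_
    refine (cop_pow_add q 3 (by norm_num)).mul_left ?_
    have := cop_pow_sub q 1 (by omega) (by norm_num)
    rwa [pow_one] at this
  obtain ⟨ψ, h1, h3⟩ := psiF
  have h := untw_frob typeF4 CoxeterMatrix.F₄.toCoxeterSystem hq H129.TorusChar.invC_F4 (by norm_num)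
    wF chkF ψ h1 h3 hN hcop (f := fF q) (fun j => hd.trans (eigF q j)) (by
      rw [dotF]
      exact (Nat.isCoprime_iff_coprime (m := N) (n := 2)).2
        (((Nat.Prime.coprime_iff_not_dvd Nat.prime_two).2 h2).symm))
    (Nat.coprime_one_left q) (Or.inl rfl) hpp hpq
  rwa [Nat.gcd_one_right, Nat.div_one] at h

/-! ### `²E₆(q)` -/

/-- the graph automorphism on the indices of the roots -/
def rh (r : ℕ) : ℕ := if h : r < 72 then (TwE6Basic.rho ⟨r, h⟩).val else r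

theorem acts_rh : Acts chevE6 6 H493.TwE6Alg.dua rh := by
  intro r hr
  have hr' : r < 72 := hr
  unfold rh
  rw [dif_pos hr']
  exact ⟨(TwE6Basic.rho ⟨r, hr'⟩).2, H493.TwE6Alg.dua_vec ⟨r, hr'⟩⟩

/-- **Frobenius subgroups of `²E₆(q)`.** -/
theorem twE6_frob {K : Type u} [Field K] [Fintype K] {q : ℕ} (hq : IsPrimePow q) (hK : Fintype.card K = q ^ 2)
    (ω : List (Fin 6)) {r m : ℕ} (hr : chkOrb chevE6 (act chevE6 ω ∘ rh) r m = true)
    (ψ : Fin 6 → ℤ) (hψ : dot ψ (vec chevE6 6 r) = 0)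
    (hψ' : ∀ i, 0 < i → i < m → dot ψ (vec chevE6 6 ((act chevE6 ω ∘ rh)^[i] r)) ≠ 0)
    {N : ℕ} (hN : 0 < N) (hNq : N.Coprime q) {f : Fin 6 → ℤ}
    (hf : ∀ j : Fin 6, (N : ℤ) ∣ dot f (vec chevE6 6 ((act chevE6 ω ∘ rh) (chevE6.simple j))) - (q : ℤ) * f j)
    (hfa : IsCoprime (N : ℤ) (dot f (vec chevE6 6 r))) {p : ℕ} (hpp : p.Prime) (hpq : p ∣ q) :
    FrobSub ↥(twistedE6 K q) p (N / Nat.gcd N (Nat.gcd 3 (q + 1))) := by
  have hfin := H493.PGE6.finW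
  obtain ⟨k, _, _, f', p', hpF, _, e, hk, hka, he, hqe⟩ := H378.TwRows.exists_closure' hq hK
  have hpp' : p = p' := by
    rw [hqe] at hpq
    exact (Nat.prime_dvd_prime_iff_eq hpp hpF.out).1 (hpp.dvd_of_dvd_pow hpq)
  subst hpp'
  have hpd : ¬ p ∣ Nat.gcd 3 (q + 1) := by
    intro h3
    have h4 : p ∣ q + 1 := h3.trans (Nat.gcd_dvd_right _ _)
    exact hpp.one_lt.ne' (Nat.dvd_one.1 ((Nat.dvd_add_right hpq).1 h4))
  have hpN : N.Coprime p := not_dvd_of_coprime_pow he (hqe ▸ hNq)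
  have hd0 : 0 < Nat.gcd 3 (q + 1) := Nat.gcd_pos_of_pos_left _ (by norm_num)
  exact frobSub (k := k) RGDTwE6.hp CoxeterMatrix.E₆.toCoxeterSystem hk he H493.TwE6Alg.isFrob_tau
    (H493.TwE6Alg.fr_tau CoxeterMatrix.E₆.toCoxeterSystem) acts_rh ω hr H129.TorusChar.invC_E6 (by norm_num) ψ hψ hψ' hN
    hpN (fun j => by rw [← hqe]; exact hf j) hfa (e0 := H493.TwE6Alg.embT f' q)
    (H493.TwE6Alg.embT_injective f' q)
    (fun a => H493.TwE6Alg.tau_embT f' hqe hq hK a) (d := Nat.gcd 3 (q + 1))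
    (fun y hy => H493.TwE6Alg.tau_pow f' hqe hq hK hy) hd0 hpd

/-! the torus of order `(q⁴+1)(q²-1)` -/

/-- the word -/
def wA : List (Fin 6) := [3, 2, 1]

theorem chkA : chkOrb chevE6 (act chevE6 wA ∘ rh) 71 8 = true := by decide +kernel

/-- the matrix -/
def TA : Fin 6 → Fin 6 → ℤ := ![![0, 0, 0, 0, 0, 1], ![0, -1, 0, -1, 0, 0], ![0, 0, 0, 1, 1, 0], ![0, 1, 1, 1, 0, 0],
  ![0, 0, -1, -1, 0, 0], ![1, 0, 1, 1, 0, 0]]

theorem hTA : ∀ j i : Fin 6, vec chevE6 6 ((act chevE6 wA ∘ rh) (chevE6.simple j)) i = TA j i := by decide +kernel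

/-- the eigenfunction -/
def fA (q : ℤ) : Fin 6 → ℤ := ![q ^ 4 + q ^ 3 - q, -q ^ 5 + q ^ 3, -q ^ 3 + q, q ^ 5 - q ^ 3 - q ^ 2 + 1,
  -q ^ 5 - q ^ 4 + q ^ 3 + 2 * q ^ 2 - 1, q ^ 5 + q ^ 4 - q ^ 2]

theorem psiA : ∃ ψ : Fin 6 → ℤ, dot ψ (vec chevE6 6 71) = 0 ∧
    ∀ i, 0 < i → i < 8 → dot ψ (vec chevE6 6 ((act chevE6 wA ∘ rh)^[i] 71)) ≠ 0 := by
  refine ⟨![-12322, 1, 10, 100, 1000, 10000], by decide +kernel, ?_⟩
  intro i h0 h1
  interval_cases i <;> decide +kernel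

theorem eigA (q : ℤ) (j : Fin 6) : (q ^ 4 + 1) * (q ^ 2 - 1) ∣
    dot (fA q) (vec chevE6 6 ((act chevE6 wA ∘ rh) (chevE6.simple j))) - q * fA q j := by
  have h : dot (fA q) (vec chevE6 6 ((act chevE6 wA ∘ rh) (chevE6.simple j))) = ∑ i, fA q i * TA j i := by
    rw [dot_apply]
    exact Finset.sum_congr rfl fun i _ => by rw [hTA]
  rw [h, Fin.sum_univ_six]
  fin_cases j
  · refine ⟨0, ?_⟩
    simp [fA, TA]; ring
  · refine ⟨1, ?_⟩
    simp [fA, TA]; ring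
  · refine ⟨0, ?_⟩
    simp [fA, TA]; ring
  · refine ⟨-1, ?_⟩
    simp [fA, TA]; ring
  · refine ⟨1, ?_⟩
    simp [fA, TA]; ring
  · refine ⟨-1, ?_⟩
    simp [fA, TA]; ring

theorem dotA (q : ℤ) : dot (fA q) (vec chevE6 6 71) = q + 1 := by
  have h : ∀ i, vec chevE6 6 71 i = (![1, 2, 2, 3, 2, 1] : Fin 6 → ℤ) i := by decide +kernel
  rw [dot_apply, Fin.sum_univ_six]
  simp only [h]
  simp [fA]
  ring

/-- **`²E₆(q)`** -/
theorem frob_tE6_8 {K : Type u} [Field K] [Fintype K] {q : ℕ} (hq : IsPrimePow q) (hK : Fintype.card K = q ^ 2)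
    {p : ℕ} (hpp : p.Prime) (hpq : p ∣ q) {N : ℕ} (hN : 0 < N)
    (hd : (N : ℤ) ∣ ((q : ℤ) ^ 4 + 1) * ((q : ℤ) ^ 2 - 1)) (hc : N.Coprime (q + 1)) :
    FrobSub ↥(twistedE6 K q) p N := by
  have hq2 : 2 ≤ q := hq.two_le
  have hNZ : (((q ^ 4 + 1) * (q ^ 2 - 1) : ℕ) : ℤ) = ((q : ℤ) ^ 4 + 1) * ((q : ℤ) ^ 2 - 1) := by
    have : 1 ≤ q ^ 2 := Nat.one_le_pow _ _ (by omega)
    push_cast [Nat.cast_sub this]
    ring
  have hd' : N ∣ (q ^ 4 + 1) * (q ^ 2 - 1) := by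
    rw [← Int.natCast_dvd_natCast, hNZ]; exact hd
  have hcop : N.Coprime q := Nat.Coprime.coprime_dvd_left hd'
    ((cop_pow_add q 4 (by norm_num)).mul_left (cop_pow_sub q 2 (by omega) (by norm_num)))
  obtain ⟨ψ, h1, h3⟩ := psiA
  have h := twE6_frob hq hK wA chkA ψ h1 h3 hN hcop (f := fA q) (fun j => hd.trans (eigA q j)) (by
      rw [dotA]
      exact_mod_cast (Nat.isCoprime_iff_coprime (m := N) (n := q + 1)).2 hc) hpp hpq
  have e : Nat.gcd N (Nat.gcd 3 (q + 1)) = 1 := Nat.Coprime.coprime_dvd_right (Nat.gcd_dvd_right 3 (q + 1)) hc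
  rwa [e, Nat.div_one] at h

/-! the torus of order `(q³+1)(q-1)(q²-1)` -/

/-- the word -/
def wD : List (Fin 6) := [1, 3, 2, 1]

theorem chkD : chkOrb chevE6 (act chevE6 wD ∘ rh) 71 6 = true := by decide +kernel

/-- the matrix -/
def TD : Fin 6 → Fin 6 → ℤ := ![![0, 0, 0, 0, 0, 1], ![0, 0, 0, -1, 0, 0], ![0, 1, 0, 1, 1, 0], ![0, 0, 1, 1, 0, 0],
  ![0, -1, -1, -1, 0, 0], ![1, 1, 1, 1, 0, 0]]

theorem hTD : ∀ j i : Fin 6, vec chevE6 6 ((act chevE6 wD ∘ rh) (chevE6.simple j)) i = TD j i := by decide +kernel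

/-- the eigenfunction -/
def fD (q : ℤ) : Fin 6 → ℤ := ![q ^ 3, 1, -q ^ 2 + q, -q, -q ^ 3 + q ^ 2 + q - 1, q ^ 3 - q + 1]

theorem psiD : ∃ ψ : Fin 6 → ℤ, dot ψ (vec chevE6 6 71) = 0 ∧
    ∀ i, 0 < i → i < 6 → dot ψ (vec chevE6 6 ((act chevE6 wD ∘ rh)^[i] 71)) ≠ 0 := by
  refine ⟨![-12322, 1, 10, 100, 1000, 10000], by decide +kernel, ?_⟩
  intro i h0 h1
  interval_cases i <;> decide +kernel

theorem eigD (q : ℤ) (j : Fin 6) : (q ^ 3 + 1) * (q - 1) ∣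
    dot (fD q) (vec chevE6 6 ((act chevE6 wD ∘ rh) (chevE6.simple j))) - q * fD q j := by
  have h : dot (fD q) (vec chevE6 6 ((act chevE6 wD ∘ rh) (chevE6.simple j))) = ∑ i, fD q i * TD j i := by
    rw [dot_apply]
    exact Finset.sum_congr rfl fun i _ => by rw [hTD]
  rw [h, Fin.sum_univ_six]
  fin_cases j
  · refine ⟨-1, ?_⟩
    simp [fD, TD]; ring
  · refine ⟨0, ?_⟩
    simp [fD, TD]
  · refine ⟨0, ?_⟩
    simp [fD, TD]; ring
  · refine ⟨0, ?_⟩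
    simp [fD, TD]; ring
  · refine ⟨1, ?_⟩
    simp [fD, TD]; ring
  · refine ⟨-1, ?_⟩
    simp [fD, TD]; ring

theorem dotD (q : ℤ) : dot (fD q) (vec chevE6 6 71) = 1 := by
  have h : ∀ i, vec chevE6 6 71 i = (![1, 2, 2, 3, 2, 1] : Fin 6 → ℤ) i := by decide +kernel
  rw [dot_apply, Fin.sum_univ_six]
  simp only [h, fD]
  show q ^ 3 * 1 + 1 * 2 + (-q ^ 2 + q) * 2 + (-q) * 3 + (-q ^ 3 + q ^ 2 + q - 1) * 2 + (q ^ 3 - q + 1) * 1 = 1
  ring

/-- **`²E₆(q)`** -/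
theorem frob_tE6_6 {K : Type u} [Field K] [Fintype K] {q : ℕ} (hq : IsPrimePow q) (hK : Fintype.card K = q ^ 2)
    {p : ℕ} (hpp : p.Prime) (hpq : p ∣ q) :
    FrobSub ↥(twistedE6 K q) p ((q ^ 3 + 1) * (q - 1) / Nat.gcd 3 (q + 1)) := by
  have hq2 : 2 ≤ q := hq.two_le
  have hNZ : (((q ^ 3 + 1) * (q - 1) : ℕ) : ℤ) = ((q : ℤ) ^ 3 + 1) * ((q : ℤ) - 1) := by
    push_cast [Nat.cast_sub (show 1 ≤ q by omega)]
    ring
  have hN : 0 < (q ^ 3 + 1) * (q - 1) := Nat.mul_pos (by positivity) (by omega)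
  have hcop : ((q ^ 3 + 1) * (q - 1)).Coprime q := by
    refine (cop_pow_add q 3 (by norm_num)).mul_left ?_
    have := cop_pow_sub q 1 (by omega) (by norm_num)
    rwa [pow_one] at this
  obtain ⟨ψ, h1, h3⟩ := psiD
  have h := twE6_frob hq hK wD chkD ψ h1 h3 hN hcop (f := fD q) (fun j => by rw [hNZ]; exact eigD q j) (by
      rw [dotD]; exact isCoprime_one_right) hpp hpq
  have h4 : q + 1 ∣ q ^ 3 + 1 := by
    have h5 := Odd.nat_add_dvd_pow_add_pow q 1 (n := 3) (by decide)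
    rwa [one_pow] at h5
  have e : Nat.gcd ((q ^ 3 + 1) * (q - 1)) (Nat.gcd 3 (q + 1)) = Nat.gcd 3 (q + 1) :=
    Nat.gcd_eq_right (((Nat.gcd_dvd_right 3 (q + 1)).trans h4).mul_right _)
  rwa [e] at h

end Cfsg.Agent.H414.E6

private theorem dce_4e1c5db2aad4 : _root_.True := by
  try have : _root_.True := by simp only [_root_.Cfsg.Agent.H414.E6.TF.eq_1]
  try have : _root_.True := by simp only [_root_.Cfsg.Agent.H414.E6.T8.eq_1]
  try have : _root_.True := by simp only [_root_.Cfsg.Agent.H414.E6.fF.eq_1]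
  try have : _root_.True := by simp only [_root_.Cfsg.Agent.H414.E6.fD.eq_1]
  try have : _root_.True := by simp only [_root_.Cfsg.Agent.H414.E6.TD.eq_1]
  try have : _root_.True := by simp only [_root_.Cfsg.Agent.H414.E6.fA.eq_1]
  try have : _root_.True := by simp only [_root_.Cfsg.Agent.H414.E6.f8.eq_1]
  try have : _root_.True := by simp only [_root_.Cfsg.Agent.H414.E6.TA.eq_1]
  exact _root_.True.intro
end

-- part: H414/E6/Frob_mg
section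

end
end
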